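import Cfsg.Agent.Lib.Spor.CoZeroMult.Main
import Cfsg.Agent.Lib.PGroup.SchurCovers
import Cfsg.Agent.Lib.Spor.Leech.Co1Simple

/-!
The Schur multiplier of the first Conway group has order two: its double cover has trivial multiplier.
-/

set_option autoImplicit false

namespace CfsgLib.Spor.CoOneMult

open Cfsg CfsgLib.Spor.Leech

theorem co0_multiplier : Cfsg.HasCyclicSchurMultiplier ↥Co0 1 :=
  Lie.Mult.hasCyclic_one_congr (A := ↥(⊤ : Subgroup Co0)) Subgroup.topEquiv
    fun _ _ _ σ hσ => CoZeroMult.ker_eq_bot σ hσ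

theorem card_center : Nat.card ↥(Subgroup.center Co0) = 2 := by
  have h := (Subgroup.center Co0).card_eq_card_quotient_mul_card_subgroup
  rw [card_co0, isCo1_quotient.2] at h
  omega

theorem multiplier_Co1 : Cfsg.HasCyclicSchurMultiplier Spor.Co1 2 := by
  haveI : Fact (Nat.Prime 2) := ⟨Nat.prime_two⟩
  have hperf : Group.IsPerfect ↥Co0 := ⟨commutator_eq_top⟩
  let π : ↥Co0 →* Spor.Co1 := QuotientGroup.mk' (Subgroup.center Co0)
  have hπ : Function.Surjective π := QuotientGroup.mk'_surjective _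
  have hker : π.ker = Subgroup.center Co0 := QuotientGroup.ker_mk' _
  refine CfsgLib.Spor.SchurCert.hasCyclic_prime
    ⟨↥Co0, inferInstance, inferInstance, π, ⟨hπ, hker.le, ?_⟩, by rw [hker]; exact card_center⟩
    fun Γ _ _ τ hτ => ?_
  · rw [commutator_eq_top]
    exact le_top
  obtain ⟨η, hη⟩ := (CfsgLib.Schur.universal_iff hperf π hπ hker.le).2 co0_multiplier Γ τ hτ.1 hτ.2.1
  have htop : η.range = ⊤ := CfsgLib.Schur.eq_top_of_map_eq_top hτ (by
    rw [MonoidHom.map_range, hη, MonoidHom.range_eq_top.2 hπ])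
  have hsurj : Function.Surjective η := MonoidHom.range_eq_top.1 htop
  have hmap : τ.ker = π.ker.map η := by
    rw [← hη, ← MonoidHom.comap_ker, Subgroup.map_comap_eq_self_of_surjective hsurj]
  have h2 : Nat.card ↥π.ker = 2 := (congrArg (fun H : Subgroup ↥Co0 => Nat.card ↥H) hker).trans card_center
  rw [hmap, ← h2]
  exact Subgroup.card_map_dvd _ _

end CfsgLib.Spor.CoOneMult
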